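import Cfsg.Agent.Lib.CosetTable.SuzG2Simple.Data
import Cfsg.Agent.Lib.CosetTable.Maximal
import Cfsg.Agent.Lib.CosetTable.SuzG2.Data

/-! Generated checks for the base and orbit data of `SuzG2`. -/

set_option Elab.async false
set_option maxRecDepth 10000

namespace Cfsg.Agent.Lib.CosetTable.SuzG2Simple

open Cfsg.Agent.Lib.CosetTable

theorem lev1_run1 : rangeAll (lev1.reachOK SuzG2.tab ws1) 256 0 = true := by decide +kernel

theorem lev1_run2 : rangeAll (lev1.reachOK SuzG2.tab ws1) 160 256 = true := by decide +kernel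

theorem lev1_ok : Below (lev1.reachOK SuzG2.tab ws1) lev1.m :=
  ((Below.zero _).step (b := 256) lev1_run1 rfl).step (b := 416) lev1_run2 rfl

theorem lev2_run1 : rangeAll (lev2.reachOK SuzG2.tab ws2) 256 0 = true := by decide +kernel

theorem lev2_run2 : rangeAll (lev2.reachOK SuzG2.tab ws2) 59 256 = true := by decide +kernel

theorem lev2_ok : Below (lev2.reachOK SuzG2.tab ws2) lev2.m :=
  ((Below.zero _).step (b := 256) lev2_run1 rfl).step (b := 315) lev2_run2 rfl

theorem lev3_run1 : rangeAll (lev3.reachOK SuzG2.tab ws3) 32 0 = true := by decide +kernel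

theorem lev3_ok : Below (lev3.reachOK SuzG2.tab ws3) lev3.m :=
  (Below.zero _).step (b := 32) lev3_run1 rfl

theorem lev4_run1 : rangeAll (lev4.reachOK SuzG2.tab ws4) 5 0 = true := by decide +kernel

theorem lev4_ok : Below (lev4.reachOK SuzG2.tab ws4) lev4.m :=
  (Below.zero _).step (b := 5) lev4_run1 rfl

theorem lev5_run1 : rangeAll (lev5.reachOK SuzG2.tab ws5) 4 0 = true := by decide +kernel

theorem lev5_ok : Below (lev5.reachOK SuzG2.tab ws5) lev5.m :=
  (Below.zero _).step (b := 4) lev5_run1 rfl

theorem lev6_run1 : rangeAll (lev6.reachOK SuzG2.tab ws6) 3 0 = true := by decide +kernel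

theorem lev6_ok : Below (lev6.reachOK SuzG2.tab ws6) lev6.m :=
  (Below.zero _).step (b := 3) lev6_run1 rfl

theorem levels_ok : LevelsOK SuzG2.cert SuzG2.tab levels :=
  ⟨⟨by decide +kernel, lev1_ok, by decide +kernel, by decide +kernel⟩,
   ⟨by decide +kernel, lev2_ok, by decide +kernel, by decide +kernel⟩,
   ⟨by decide +kernel, lev3_ok, by decide +kernel, by decide +kernel⟩,
   ⟨by decide +kernel, lev4_ok, by decide +kernel, by decide +kernel⟩,
   ⟨by decide +kernel, lev5_ok, by decide +kernel, by decide +kernel⟩,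
   ⟨by decide +kernel, lev6_ok, by decide +kernel, by decide +kernel⟩,
   trivial⟩

theorem levels_card : levelsCard levels = 251596800 := by decide +kernel

theorem elt_run1 : rangeAll (SuzG2.tab.fixOK [(List.replicate 13 elt).flatten]) 256 0 = true := by decide +kernel

theorem elt_run2 : rangeAll (SuzG2.tab.fixOK [(List.replicate 13 elt).flatten]) 160 256 = true := by decide +kernel

theorem elt_pow : Below (SuzG2.tab.fixOK [(List.replicate 13 elt).flatten]) 416 :=
  ((Below.zero _).step (b := 256) elt_run1 rfl).step (b := 416) elt_run2 rfl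

theorem cover_run1 : rangeAll (covered [SuzG2.orb1, SuzG2.orb2]) 416 0 = true := by decide +kernel

theorem covered_ok : Below (covered [SuzG2.orb1, SuzG2.orb2]) 416 :=
  (Below.zero _).step (b := 416) cover_run1 rfl

end Cfsg.Agent.Lib.CosetTable.SuzG2Simple
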